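/-
Morphisms of first order thickenings and the induced maps of restricted differentials (helper24).
-/
import Groth.Agent.Ribbon24.Fibre

set_option autoImplicit false

universe u

open CategoryTheory CategoryTheory.Limits AlgebraicGeometry TopologicalSpace Opposite OmegaSh
open Groth.Agent.Omega.Basic

noncomputable section

namespace Groth.Agent.Ribbon24

variable {S D C X : Scheme.{u}}

/-- `s` is the map of restricted differentials induced by `g`. -/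
def Rel (i : D ⟶ C) (j : D ⟶ X) {pC : C ⟶ S} {pX : X ⟶ S} {Ω₁ : C.Modules} (d₁ : Der pC Ω₁)
    {Ω₃ : X.Modules} (d₃ : Der pX Ω₃) (g : C ⟶ X)
    (s : (Scheme.Modules.pullback j).obj Ω₃ ⟶ (Scheme.Modules.pullback i).obj Ω₁) : Prop :=
  ∀ (U : X.Opens) (t : Γ(X, U)) (e : i ⁻¹ᵁ (g ⁻¹ᵁ U) ≤ j ⁻¹ᵁ U),
    pr i d₁ (g ⁻¹ᵁ U) (g.app U t) =
      ((Scheme.Modules.pullback i).obj Ω₁).presheaf.map (homOfLE e).op
        (s.app (j ⁻¹ᵁ U) (pullSect j Ω₃ U (d₃.app U t)))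

variable {i : D ⟶ C} {pC : C ⟶ S} {Ω₁ : C.Modules} {d₁ : Der pC Ω₁}

/-- The map of restricted differentials of a morphism. -/
theorem exists_rel {j : D ⟶ X} {pX : X ⟶ S} {Ω₃ : X.Modules} {d₃ : Der pX Ω₃} (hd₃ : IsUniversal d₃)
    {g : C ⟶ X} (hj : i ≫ g = j) (hg : g ≫ pX = pC) {Ω₂ : D.Modules} {pD : D ⟶ S} {d₂ : Der pD Ω₂}
    {c : (Scheme.Modules.pullback i).obj Ω₁ ⟶ Ω₂} (hc : IsDiffCompat i d₁ d₂ c)
    {c' : (Scheme.Modules.pullback j).obj Ω₃ ⟶ Ω₂} (hc' : IsDiffCompat j d₃ d₂ c') :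
    ∃ s, Rel i j d₁ d₃ g s ∧ s ≫ c = c' := by
  subst hj
  have hsq : pC ≫ 𝟙 _ = g ≫ pX := by rw [Category.comp_id, hg]
  obtain ⟨c₀, hc₀, -⟩ := existsUnique_diffCompat g hsq hd₃ d₁
  let β := (Scheme.Modules.pullbackComp i g).inv.app Ω₃ ≫ (Scheme.Modules.pullback i).map c₀
  have hβ : ∀ (U : X.Opens) (t : Γ(X, U)),
      β.app ((i ≫ g) ⁻¹ᵁ U) (pullSect (i ≫ g) Ω₃ U (d₃.app U t)) =
        pr i d₁ (g ⁻¹ᵁ U) (g.app U t) := fun U t => by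
    have hnat : ((Scheme.Modules.pullback i).map c₀).app (i ⁻¹ᵁ g ⁻¹ᵁ U)
        (pullSect i ((Scheme.Modules.pullback g).obj Ω₃) (g ⁻¹ᵁ U)
          (pullSect g Ω₃ U (d₃.app U t))) =
        pullSect i Ω₁ (g ⁻¹ᵁ U) (c₀.app (g ⁻¹ᵁ U) (pullSect g Ω₃ U (d₃.app U t))) := by
      have h := (Scheme.Modules.pullbackPushforwardAdjunction i).unit.naturality c₀
      exact (congr(Scheme.Modules.Hom.app $h (g ⁻¹ᵁ U) (pullSect g Ω₃ U (d₃.app U t)))).symm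
    exact ((congrArg (((Scheme.Modules.pullback i).map c₀).app _)
      (Omega.Lift.pullbackComp_inv_pullSect (h := g) i U (d₃.app U t))).trans hnat).trans
      (congrArg (pullSect i Ω₁ (g ⁻¹ᵁ U)) (hc₀ U t))
  refine ⟨β, fun U t e => ?_, ?_⟩
  · refine (hβ U t).symm.trans ?_
    exact (congr($(((Scheme.Modules.pullback i).obj Ω₁).presheaf.map_id _) _)).symm
  · refine Omega.Transitivity.hom_ext_pullback hd₃ fun U t => ?_
    refine (congrArg (c.app _) (hβ U t)).trans ((hc (g ⁻¹ᵁ U) (g.app U t)).trans ?_)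
    exact (hc' U t).symm

theorem Rel.comp {C' C'' : Scheme.{u}} {j : D ⟶ C'} {k : D ⟶ C''} {pC' : C' ⟶ S} {pC'' : C'' ⟶ S}
    {Ω₁' : C'.Modules} {d₁' : Der pC' Ω₁'} {Ω₁'' : C''.Modules} {d₁'' : Der pC'' Ω₁''}
    {g : C ⟶ C'} {g' : C' ⟶ C''}
    {s : (Scheme.Modules.pullback j).obj Ω₁' ⟶ (Scheme.Modules.pullback i).obj Ω₁}
    {s' : (Scheme.Modules.pullback k).obj Ω₁'' ⟶ (Scheme.Modules.pullback j).obj Ω₁'}
    (hj : i ≫ g = j) (hk : j ≫ g' = k) (h : Rel i j d₁ d₁' g s) (h' : Rel j k d₁' d₁'' g' s') :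
    Rel i k d₁ d₁'' (g ≫ g') (s' ≫ s) := by
  intro U t e
  have e1 : i ⁻¹ᵁ (g ⁻¹ᵁ (g' ⁻¹ᵁ U)) ≤ j ⁻¹ᵁ (g' ⁻¹ᵁ U) := le_of_eq (by subst hj; rfl)
  have e2 : j ⁻¹ᵁ (g' ⁻¹ᵁ U) ≤ k ⁻¹ᵁ U := le_of_eq (by subst hk; rfl)
  rw [Scheme.Hom.comp_app]
  refine (h (g' ⁻¹ᵁ U) (g'.app U t) e1).trans ?_
  refine (congrArg (fun z => ((Scheme.Modules.pullback i).obj Ω₁).presheaf.map (homOfLE e1).op
    (s.app (j ⁻¹ᵁ (g' ⁻¹ᵁ U)) z)) (h' U t e2)).trans ?_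
  refine (congrArg (((Scheme.Modules.pullback i).obj Ω₁).presheaf.map (homOfLE e1).op)
    (congr($((Scheme.Modules.Hom.mapPresheaf s).naturality (homOfLE e2).op) _))).trans ?_
  exact res_resP _ (homOfLE e2) (homOfLE e1) (homOfLE e) _

variable [IsClosedImmersion i] {Ω₂ : D.Modules} {d₂ : Der (i ≫ pC) Ω₂}
  {φ : Omega.conormal i ⟶ (Scheme.Modules.pullback i).obj Ω₁}
  {c : (Scheme.Modules.pullback i).obj Ω₁ ⟶ Ω₂}
  {hw : φ ≫ c = 0}

theorem eq_id_of_rel (hsq : i.ker ^ 2 = ⊥) (hφ : IsConormalDiff i d₁ φ)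
    (hS : (ShortComplex.mk φ c hw).ShortExact) {h : C ⟶ C} (hi : i ≫ h = i)
    (hrel : Rel i i d₁ d₁ h (𝟙 _)) : h = 𝟙 C := by
  refine Scheme.Hom.ext (TopCat.hom_ext (ContinuousMap.ext fun p => ?_)) fun U => ?_
  · obtain ⟨d, rfl⟩ := surjective_of_sq i hsq p
    show h (i d) = i d
    rw [← Scheme.Hom.comp_apply, hi]
  · refine CommRingCat.hom_ext (RingHom.ext fun t => ?_)
    have hUe : h ⁻¹ᵁ U = U := Opens.ext (Set.ext fun p => by
      obtain ⟨d, rfl⟩ := surjective_of_sq i hsq p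
      show h (i d) ∈ U ↔ i d ∈ U
      rw [← Scheme.Hom.comp_apply, hi])
    suffices key : C.presheaf.map (homOfLE hUe.ge).op (h.app U t) = t from
      key.trans (congr($(C.presheaf.map_id _) t)).symm |>.trans (congr($(C.presheaf.map_id _) t))
    refine eq_of_pair i hsq d₁ hφ hS ?_ ?_
    · have h1 : i.app (h ⁻¹ᵁ U) (h.app U t) =
          D.presheaf.map (eqToHom (show i ⁻¹ᵁ h ⁻¹ᵁ U = i ⁻¹ᵁ U by
            show (i ≫ h) ⁻¹ᵁ U = i ⁻¹ᵁ U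
            rw [hi])).op (i.app U t) :=
        congr($(Scheme.Hom.congr_app hi U) t)
      rw [app_map, h1]
      exact (res_res _ _ (𝟙 _) _).trans (res_self _ _)
    · rw [pr_map, hrel U t (i.preimage_mono hUe.le)]
      refine (res_resP _ _ _ (𝟙 _) _).trans ?_
      exact congr($(((Scheme.Modules.pullback i).obj Ω₁).presheaf.map_id _) _)

omit [IsClosedImmersion i] in
theorem eq_id_of_rel_id (hd₁ : IsUniversal d₁)
    {s : (Scheme.Modules.pullback i).obj Ω₁ ⟶ (Scheme.Modules.pullback i).obj Ω₁}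
    (h : Rel i i d₁ d₁ (𝟙 C) s) : s = 𝟙 _ := by
  refine Omega.Transitivity.hom_ext_pullback hd₁ fun U t => ?_
  have h1 := h U t le_rfl
  rw [Scheme.Hom.id_app] at h1
  exact ((congr($(((Scheme.Modules.pullback i).obj Ω₁).presheaf.map_id _) _)).symm.trans h1.symm)

end Groth.Agent.Ribbon24
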